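import Cfsg.Agent.Lib.Comp.Thz.Main
import Cfsg.Agent.Lib.Comp.Out
import Cfsg.Agent.Lib.Comp.Cen

set_option maxRecDepth 100000
set_option maxHeartbeats 400000

namespace Cfsg.Lib.Comp.Tho

open Cfsg.Lib.Comp.Th Cfsg.Lib.Comp.Thz Subgroup

/-- The letters of the control group in `Th`. -/
noncomputable def γ (x : ℕ) : Spor.Th := ph (sval (cl (gp Thn.nets) LN) (gp Thn.nets) x)

theorem ev_g (w : List ℕ) : ev γ w = ph (ed w) := (ev_map _ ph w).symm

theorem g_eq {w : List ℕ} (h : subB w LN = true) : ev γ w = ev gam w := (ev_g w).trans (ph_ed h)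

theorem g_one {x : ℕ} (h : x ∈ LN) : γ x = gam x := by
  rw [← ev_single γ, g_eq (by revert x; decide +kernel), ev_single]

noncomputable abbrev eqL (u v : List ℕ) : Bool := eqW Thn.tb Thn.B Thn.Lc u v

theorem l_eq {u v : List ℕ} (h : eqL u v = true) : ev γ u = ev γ v := by
  rw [ev_g, ev_g]; exact congrArg ph (Thn.ctl.eq h)

theorem pt_eq {u v : List ℕ} (hu : ∀ x ∈ u, x ∈ Thn.Lc) (hv : ∀ x ∈ v, x ∈ Thn.Lc) (h : ev γ u = ev γ v) (p : ℕ) :
    wap Thn.tb u p = wap Thn.tb v p := by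
  rw [ev_g, ev_g] at h
  rw [wap_eq Thn.tb_ok, wap_eq Thn.tb_ok, ← Thn.ctl.coe hu, ← Thn.ctl.coe hv]
  exact congrArg (fun g : D => (g : Equiv.Perm ℕ)⁻¹ p) (ph_inj h)

/-- The relators `RT` hold at the base points after the substitution of `w` for `y`. -/
noncomputable def holds (y : ℕ) (w : List ℕ) (RT : List (List ℕ × ℕ)) : Bool :=
  allL RT fun r => allL Thn.B fun p =>
    Nat.beq (wap2 Thn.tb (fun x => cnd (Nat.beq x y) w [x]) r.1 (Nat.succ r.2) p) p

/-- `α` fixes the letters `F`. -/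
def Fi (α : MulAut Spor.Th) (F : List ℕ) : Prop := ∀ x ∈ F, α (gam x) = gam x

theorem Fi.ev {α : MulAut Spor.Th} {F w : List ℕ} (h : Fi α F) (hw : ∀ x ∈ w, x ∈ F) : α (ev gam w) = ev gam w :=
  map_ev_of_gen (f := α.toMonoidHom) fun x hx => h x (hw x hx)

theorem holds_of {α : MulAut Spor.Th} {F : List ℕ} (hF : Fi α F) {y : ℕ} {w : List ℕ} (hw : subB w Thn.Lc = true)
    (h : α (gam y) = ev γ w) {RT : List (List ℕ × ℕ)} (hR : ∀ r ∈ RT, r ∈ R ∧ ∀ x ∈ r.1, x = y ∨ x ∈ F ∧ x ∈ LN) :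
    holds y w RT = true := allL_iff.2 fun r hr => allL_iff.2 fun p _ => by
  have a := gam_rel.map α.toMonoidHom r (hR r hr).1
  have s : ∀ x ∈ r.1, (∀ z ∈ cnd (Nat.beq x y) w [x], z ∈ Thn.Lc) ∧
      α.toMonoidHom (gam x) = ph (ed (cnd (Nat.beq x y) w [x])) := fun x hx => by
    rw [← ev_g, cnd_eq]
    split_ifs with e
    · exact ⟨sub_of_subB hw, beq_tt.1 e ▸ h⟩
    · obtain ⟨b, c⟩ := ((hR r hr).2 x hx).resolve_left fun k => e (beq_tt.2 k)
      exact ⟨fun z hz => List.mem_singleton.1 hz ▸ (by decide : ∀ x ∈ LN, x ∈ Thn.Lc) x c,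
        by rw [ev_single, g_one c]; exact hF x b⟩
  rw [ev_congr _ fun x hx => (s x hx).2, ← ev_map, ← map_pow, ← ph.map_one] at a
  have b := congrArg (cl (gp Thn.nets) LN).subtype (ph_inj a)
  rw [map_pow, ev_map, map_one] at b
  rw [beq_tt, wap2_eq Thn.tb_ok, Nat.succ_eq_add_one, ((congrArg (· ^ (r.2 + 1))
    (ev_congr _ fun x hx => (Thn.ctl.coe (s x hx).1).symm)).trans b :)]
  rfl

/-- Some inner multiple of `α` fixes `F`. -/
def Gd (α : MulAut Spor.Th) (F : List ℕ) : Prop := ∃ g, Fi (MulAut.conj g * α) F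

theorem Gd.trans {α : MulAut Spor.Th} {F F' : List ℕ} (h : Gd α F) (h' : ∀ β, Fi β F → Gd β F') : Gd α F' := by
  obtain ⟨g, hg⟩ := h
  obtain ⟨k, hk⟩ := h' _ hg
  exact ⟨k * g, by rwa [map_mul, mul_assoc]⟩

theorem Fi.gd {α : MulAut Spor.Th} {F : List ℕ} (h : Fi α F) : Gd α F := ⟨1, by rwa [map_one, one_mul]⟩

theorem Fi.inv {α : MulAut Spor.Th} {F : List ℕ} (h : Fi α F) {y : ℕ} (hy : y ∈ F) (h' : y < 64) : Fi α (iv y :: F) :=
  List.forall_mem_cons.2 ⟨by rw [gam_inv h', map_inv, h y hy], h⟩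

/-- The check of one step. -/
noncomputable def stepB (F : List ℕ) (y : ℕ) (W : List (List ℕ)) (RT : List (List ℕ × ℕ)) (J : List (List ℕ)) : Bool :=
  cnd (subB (y :: F) LN) (cnd (allL J fun j => allL F fun x => eqL (apd j [x]) (x :: j))
    (allL W fun w => cnd (subB w Thn.Lc) (cnd (holds y w RT) (J.any fun j => eqL (apd j w) (y :: j)) true) false)
    false) false

theorem step {α : MulAut Spor.Th} {F : List ℕ} (hF : Fi α F) {y : ℕ} {W : List (List ℕ)}
    (hW : ∃ w ∈ W, α (gam y) = ev γ w) {RT : List (List ℕ × ℕ)} {J : List (List ℕ)}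
    (hR : ∀ r ∈ RT, r ∈ R ∧ ∀ x ∈ r.1, x = y ∨ x ∈ F ∧ x ∈ LN) (h : stepB F y W RT J = true) : Gd α (y :: F) := by
  obtain ⟨w, hw, e⟩ := hW
  rw [stepB, cnd_tt, cnd_tt] at h
  have a := allL_iff.1 h.2.2 w hw
  rw [cnd_tt] at a
  have b := a.2
  rw [holds_of hF a.1 e hR] at b
  obtain ⟨j, hj, c⟩ := List.any_eq_true.1 (show J.any _ = true from b)
  have s := sub_of_subB h.1
  refine ⟨ev γ j, fun x hx => ?_⟩
  rw [MulAut.mul_apply, MulAut.conj_apply, mul_inv_eq_iff_eq_mul, ← g_one (s x hx), ← ev_cons]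
  rcases List.mem_cons.1 hx with rfl | k
  · rw [g_one (s x hx), e, ← ev_append, ← apd_eq, l_eq c]
  · rw [g_one (s x hx), hF x k, ← g_one (s x hx), ← ev_single γ, ← ev_append, ← apd_eq,
      l_eq (allL_iff.1 (allL_iff.1 h.2.1 j hj) x k)]

noncomputable def f : C →* Equiv.Perm ℕ := f_ex.choose

theorem f_range : f.range = cl (gp Th9.nets) LC := f_ex.choose_spec.1

theorem f_ev {w : List ℕ} (h : subB w LC = true) : f (ev gc w) = ev (gp Th9.nets) w := f_ex.choose_spec.2 w h

theorem a9 : Nat.card (cl (gp Th9.nets) LC) = 181440 := (c_card gam_iv gam_rel gam_ne).2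

theorem cc : Nat.card C = 92897280 := by rw [← c_ord, ← cen_eq]

theorem ker_card : Nat.card f.ker = 512 := by
  have h := f.ker.index_mul_card
  rw [index_ker, f_range, a9, cc] at h
  omega

/-- The elements of `Q`. -/
noncomputable def qw (n : ℕ) : List ℕ :=
  Nat.rec [] (fun i w => cnd (Nat.beq (look n 1 i) 1) (apd (cnd (Nat.beq i 8) [1] (nth [] VQ (Nat.succ i))) w) w) 9

noncomputable def QL : List (List ℕ) := mapL qw (List.range 512)

theorem q_sub : ∀ w ∈ QL, subB w LK = true := allL_iff.1 (by decide +kernel)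

theorem q_nd : (QL.map fun u => Nat.add (Nat.mul (wap Thn.tb u 1) 20480) (wap Thn.tb u 9007)).Nodup := by
  decide +kernel

theorem q_ker : Rels (gp Th9.nets) (mapL (fun w => (w, 0)) QL) :=
  rels_of_relsB (k := 4) Th9.nets_ok (by norm_num) (by decide +kernel)

theorem sub_k {w : List ℕ} (h : subB w LK = true) : subB w LN = true ∧ subB w LC = true ∧ ∀ x ∈ w, x ∈ Thn.Lc := by
  have a : ∀ x ∈ LK, subB [x] LN = true ∧ subB [x] LC = true ∧ x ∈ Thn.Lc := by decide +kernel
  have b := fun x hx => a x (sub_of_subB h x hx)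
  exact ⟨allL_iff.2 fun x hx => allL_iff.1 (b x hx).1 x (by simp),
    allL_iff.2 fun x hx => allL_iff.1 (b x hx).2.1 x (by simp), fun x hx => (b x hx).2.2⟩

theorem coe_k {w : List ℕ} (h : subB w LK = true) : ((ev gc w : C) : Spor.Th) = ev γ w :=
  (coe_gc (sub_k h).2.1).trans (g_eq (sub_k h).1).symm

theorem q_mem {w : List ℕ} (h : w ∈ QL) : ev gc w ∈ f.ker := by
  have := q_ker (w, 0) (by rw [mapL_eq]; exact List.mem_map_of_mem h)
  rw [zero_add, pow_one] at this
  exact (f_ev (sub_k (q_sub w h)).2.1).trans this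

theorem ker_list {g : C} (hg : f g = 1) : ∃ w ∈ QL, (g : Spor.Th) = ev γ w := by
  classical
  have b : (QL.map (ev gc)).Nodup := (List.nodup_map_iff_inj_on (List.Nodup.of_map _ q_nd)).2 fun u hu v hv e =>
    List.inj_on_of_nodup_map q_nd hu hv (by
      have := pt_eq (sub_k (q_sub u hu)).2.2 (sub_k (q_sub v hv)).2.2
        (by rw [← coe_k (q_sub u hu), ← coe_k (q_sub v hv), e])
      simp only [this])
  have := Set.eq_of_subset_of_ncard_le (s := ((QL.map (ev gc)).toFinset : Set _)) (t := (f.ker : Set C))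
    (fun a ha => by
      obtain ⟨u, hu, rfl⟩ := List.mem_map.1 (List.mem_toFinset.1 ha)
      exact q_mem hu)
    (by
      rw [Set.ncard_coe_finset, List.toFinset_card_of_nodup b, List.length_map,
        show QL.length = 512 by decide +kernel]
      exact ker_card.le) (Set.toFinite _)
  obtain ⟨w, hw, rfl⟩ := List.mem_map.1 (List.mem_toFinset.1 (this.ge hg))
  exact ⟨w, hw, coe_k (q_sub w hw)⟩

/-- Only `1` and `a` in `Q` commute with the generators of `Q`. -/
theorem z_chk : allL QL (fun w => cnd (allL VQ fun v => allL Thn.B fun p =>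
    Nat.beq (wap Thn.tb (apd v w) p) (wap Thn.tb (apd w v) p)) (cnd (eqL w []) true (eqL w [1])) true) = true := by
  decide +kernel

theorem vq_mem : ∀ v ∈ VQ, subB v LK = true ∧ ev (gp Th9.nets) v = 1 := fun v hv => ⟨by revert v; decide +kernel, by
  simpa using rels_of_relsB (k := 4) Th9.nets_ok (by norm_num) (R := VQ.map fun w => (w, 0)) (by decide +kernel) _
    (List.mem_map_of_mem hv)⟩

theorem cen_q {g : C} (hg : ∀ q ∈ f.ker, q * g = g * q) : (g : Spor.Th) = 1 ∨ (g : Spor.Th) = gam 1 := by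
  obtain ⟨e⟩ := Th9.alt a9
  have : IsSimpleGroup f.range := by
    rw [f_range]; exact have := alternatingGroup.isSimpleGroup (α := Fin 9) (by simp); e.isSimpleGroup
  have vq : ∀ v ∈ VQ, ev gc v ∈ f.ker := fun v hv => (f_ev (sub_k (vq_mem v hv).1).2.1).trans (vq_mem v hv).2
  rcases ((inferInstance : (centralizer (f.ker : Set C)).Normal).map f.rangeRestrict
    f.rangeRestrict_surjective).eq_bot_or_eq_top with h | h
  · have g0 : f.rangeRestrict g ∈ (centralizer (f.ker : Set C)).map f.rangeRestrict := mem_map_of_mem _ hg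
    rw [h, mem_bot] at g0
    obtain ⟨w, hw, e⟩ := ker_list (g := g) (Subtype.ext_iff.1 g0)
    have a := allL_iff.1 z_chk w hw
    rw [show allL VQ _ = true from allL_iff.2 fun v hv => allL_iff.2 fun p _ => beq_tt.2 (pt_eq
      (by rw [apd_eq]; exact List.forall_mem_append.2 ⟨(sub_k (vq_mem v hv).1).2.2, (sub_k (q_sub w hw)).2.2⟩)
      (by rw [apd_eq]; exact List.forall_mem_append.2 ⟨(sub_k (q_sub w hw)).2.2, (sub_k (vq_mem v hv).1).2.2⟩) (by
        rw [apd_eq, apd_eq, ev_append, ev_append, ← e, ← coe_k (vq_mem v hv).1]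
        exact congrArg Subtype.val (hg _ (vq v hv))) p)] at a
    rw [e]
    cases k : eqL w []
    · rw [k] at a; exact Or.inr ((l_eq a).trans ((ev_single _ _).trans (g_one (by decide))))
    · exact Or.inl (l_eq k)
  · have a := card_map_dvd (centralizer (f.ker : Set C)) f.rangeRestrict
    rw [h, card_top, f_range, a9] at a
    have b := mem_normal_of_dvd (p := 7) (a := 1) (k := 1) (m := 13271040) (by norm_num) (cc.trans (by norm_num))
      (by norm_num) _ (Dvd.dvd.trans (by norm_num) a) (x := ev gc [6]) (Subtype.ext (by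
        rw [coe_pow, coe_gc (by decide +kernel)]; exact gam_rel ([6], 6) (by decide +kernel)))
    have c := congrArg Subtype.val (b _ (vq [5, 4, 3, 4, 5] (by decide)))
    rw [← ev_append, ← ev_append, coe_gc (by decide +kernel), coe_gc (by decide +kernel)] at c
    exact absurd c (h_ne (p := 1) (by decide +kernel))

end Cfsg.Lib.Comp.Tho
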