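import Cfsg.Agent.Lib.Comp.Tho.Nine

set_option maxRecDepth 100000
set_option maxHeartbeats 400000

namespace Cfsg.Lib.Comp.Tho

open Cfsg.Lib.Comp.Th Cfsg.Lib.Comp.Thz Subgroup

theorem step_a (α : MulAut Spor.Th) : Gd α [1] := by
  have : Fact (Nat.Prime 2) := Nat.fact_prime_two
  have h1 : Nat.card (centralizer {α (gam 1)}) = 92897280 := by
    rw [← cc]
    refine (Nat.card_congr (α.toEquiv.subtypeEquiv fun g => ?_)).symm
    simp only [mem_centralizer_singleton_iff, MulEquiv.toEquiv_eq_coe, EquivLike.coe_coe, ← map_mul,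
      EmbeddingLike.apply_eq_iff_eq]
  have h2 := (centralizer {α (gam 1)}).index_mul_card
  rw [h1, card_all.1] at h2
  have h3 : IsPGroup 2 (f.ker.map (centralizer {gam 1}).subtype) :=
    IsPGroup.of_card (n := 9) (by rw [card_map_of_injective (subtype_injective _), ker_card]; norm_num)
  obtain ⟨y, hy⟩ := h3.nonempty_fixed_point_of_prime_not_dvd_card (Spor.Th ⧸ centralizer {α (gam 1)}) (by
    change ¬ 2 ∣ (centralizer {α (gam 1)}).index
    omega)
  obtain ⟨g, rfl⟩ := QuotientGroup.mk_surjective y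
  have h4 : ∀ q ∈ f.ker, (q : Spor.Th) * (g * α (gam 1) * g⁻¹) = g * α (gam 1) * g⁻¹ * q := fun q hq => by
    have a : ((q * g : Spor.Th) : Spor.Th ⧸ centralizer {α (gam 1)}) = g := hy ⟨q, mem_map_of_mem _ hq⟩
    have b := mem_centralizer_singleton_iff.1 (QuotientGroup.eq.1 a.symm)
    calc _ = g * (g⁻¹ * (q * g) * α (gam 1)) * g⁻¹ := by group
      _ = _ := by rw [b]; group
  have h5 : gc 1 ∈ f.ker := by
    rw [← ev_single gc]
    exact (f_ev (by decide +kernel)).trans (by simpa using Th9.triv ([1], 0) (by simp))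
  have h6 : g * α (gam 1) * g⁻¹ ∈ centralizer {gam 1} := mem_centralizer_singleton_iff.2 (by
    have := h4 _ h5
    rw [coe_z] at this
    exact this.symm)
  refine ⟨g, List.forall_mem_singleton.2 ((cen_q (g := ⟨_, h6⟩) fun q hq => Subtype.ext (h4 q hq)).resolve_left ?_)⟩
  simpa using gam_ne

theorem mem_c {α : MulAut Spor.Th} (h : α (gam 1) = gam 1) {g : Spor.Th} (hg : g ∈ centralizer {gam 1}) :
    α g ∈ centralizer {gam 1} := mem_centralizer_singleton_iff.2 (by
  rw [← h, ← map_mul, ← map_mul, mem_centralizer_singleton_iff.1 hg])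

theorem s_pow : gam 6 ^ 7 = 1 := by simpa [ev_single] using gam_rel ([6], 6) (by decide +kernel)

theorem step_s {α : MulAut Spor.Th} (h : Fi α [1]) : Gd α [6, 1] := by
  have : Fact (Nat.Prime 7) := ⟨by norm_num⟩
  have s0 : gam 6 ∈ centralizer {gam 1} := c_le (mem_cl (by decide))
  have s1 : gam 6 ≠ 1 := by simpa [ev_single, ev_nil] using h_ne (u := [6]) (w := []) (p := 0) (by decide +kernel)
  have o : orderOf (⟨_, s0⟩ : C) = 7 := orderOf_eq_prime (Subtype.ext s_pow) fun e => s1 (Subtype.ext_iff.1 e)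
  have i := (zpowers (⟨_, s0⟩ : C)).index_mul_card
  rw [Nat.card_zpowers, o, cc] at i
  obtain ⟨g, hg⟩ := conj_mem_of_index (p := 7) (A := zpowers (⟨_, s0⟩ : C)) (by omega)
    (x := ⟨_, mem_c (h 1 (by simp)) s0⟩) (Subtype.ext (by rw [coe_pow, ← map_pow, s_pow, map_one]; rfl))
  classical
  rw [mem_zpowers_iff_mem_range_orderOf, o, Finset.mem_image] at hg
  obtain ⟨k, hk, e⟩ := hg
  replace e : gam 6 ^ k = (MulAut.conj (g : Spor.Th) * α) (gam 6) := Subtype.ext_iff.1 e
  obtain ⟨j, hj⟩ := step (α := MulAut.conj (g : Spor.Th) * α) (F := [1]) (y := 6) (List.forall_mem_singleton.2 (by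
      rw [MulAut.mul_apply, h 1 (by simp), MulAut.conj_apply, mem_centralizer_singleton_iff.1 g.2, mul_inv_cancel_right]))
    (W := [1, 2, 3, 4, 5, 6].map fun k => rpl k 6 []) (RT := []) (J := [[], [8], [9], [4], [4, 8], [4, 9]])
    ⟨_, List.mem_map_of_mem (a := k) (by
      have : k ≠ 0 := by
        rintro rfl
        exact s1 (by simpa using e.symm)
      rw [Finset.mem_range] at hk
      simp only [List.mem_cons]
      omega), by rw [ev_rpl, ev_nil, mul_one, g_one (by decide), e]⟩ (by simp) (by decide +kernel)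
  exact ⟨j * g, by rwa [map_mul, mul_assoc]⟩

/-- The centraliser of `a` and `s`. -/
noncomputable def WS : List (List ℕ) :=
  [0, 1, 2, 3, 256, 257, 258, 259].flatMap fun n => (List.range 7).map fun i => apd (qw n) (rpl i 6 [])

theorem s_chk : allL QL (fun w => cnd (allL Thn.B fun p => Nat.beq (wap Thn.tb (apd w [6]) p) (wap Thn.tb (6 :: w) p))
    (decide (w ∈ [0, 1, 2, 3, 256, 257, 258, 259].map qw)) true) = true := by decide +kernel

theorem f_gc {x : ℕ} (h : x ∈ LC) : f (gc x) = gp Th9.nets x ∧ (gc x : Spor.Th) = gam x := by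
  rw [← ev_single gc, f_ev (by revert x; decide +kernel), coe_gc (by revert x; decide +kernel), ev_single, ev_single]
  exact ⟨rfl, rfl⟩

theorem f_mem (g : C) : f g ∈ A9 := f_range.le ⟨g, rfl⟩

theorem cen_s {g : Spor.Th} (h : g ∈ centralizer {gam 1}) (hc : Commute g (gam 6)) : ∃ w ∈ WS, g = ev γ w := by
  obtain ⟨s1, s2⟩ := f_gc (x := 6) (by decide)
  have c : Commute (⟨g, h⟩ : C) (gc 6) := Subtype.ext (by rw [coe_mul, coe_mul, s2]; exact hc)
  obtain ⟨i, hi, e⟩ := cen7 (f_mem ⟨g, h⟩) (s1 ▸ c.map f)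
  obtain ⟨w, hw, e'⟩ := ker_list (g := ⟨g, h⟩ * (gc 6 ^ i)⁻¹) (by rw [map_mul, map_inv, map_pow, s1, e, mul_inv_cancel])
  rw [coe_mul, coe_inv, coe_pow, s2] at e'
  have a := allL_iff.1 s_chk w hw
  have b := (sub_k (q_sub w hw)).2.2
  rw [show allL _ _ = true from allL_iff.2 fun p _ => beq_tt.2 (pt_eq
    (by rw [apd_eq]; exact List.forall_mem_append.2 ⟨b, by decide⟩) (List.forall_mem_cons.2 ⟨by decide, b⟩) (by
      rw [apd_eq, ev_append, ev_cons, ev_cons, ev_nil, mul_one, g_one (by decide), ← e']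
      exact (hc.mul_left ((Commute.refl _).pow_left i).inv_left).eq) p)] at a
  obtain ⟨n, hn, rfl⟩ := List.mem_map.1 (of_decide_eq_true a)
  refine ⟨_, List.mem_flatMap.2 ⟨n, hn, List.mem_map_of_mem (List.mem_range.2 hi)⟩, ?_⟩
  rw [apd_eq, ev_append, ← e', ev_rpl, ev_nil, g_one (by decide)]
  group

theorem comm_of {G : Type*} [Group G] {α : MulAut G} {s y : G} (h1 : α s = s) (h2 : α (y⁻¹ * s * y) = y⁻¹ * s * y) :
    Commute (α y * y⁻¹) s := by
  rw [map_mul, map_mul, map_inv, h1] at h2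
  calc _ = α y * (y⁻¹ * s * y) * y⁻¹ := by group
    _ = _ := by rw [← h2]; group

theorem cand {α : MulAut Spor.Th} {F : List ℕ} (hF : Fi α F) (h1 : 1 ∈ F) (h6 : 6 ∈ F) {y : ℕ} (hy : y ∈ LK)
    {w : List ℕ} (hw : ∀ x ∈ w, x ∈ F) (h : eqH [iv y, 6, y] w = true) :
    ∃ w ∈ WS.map fun w => apd w [y], α (gam y) = ev γ w := by
  have a := h_eq h
  obtain ⟨k1, k2, k3⟩ := (by decide : ∀ y ∈ LK, y ∈ LC ∧ y < 64 ∧ y ∈ LN) y hy
  have y1 : gam y ∈ centralizer {gam 1} := c_le (mem_cl k1)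
  rw [ev_cons, ev_cons, ev_single, gam_inv k2, ← mul_assoc] at a
  obtain ⟨v, hv, e⟩ := cen_s (mul_mem (mem_c (hF 1 h1) y1) (inv_mem y1)) (comm_of (hF 6 h6) (by rw [a, hF.ev hw]))
  exact ⟨_, List.mem_map_of_mem hv, by
    rw [apd_eq, ev_append, ← e, ev_single, g_one k3, inv_mul_cancel_right]⟩

theorem step_t {α : MulAut Spor.Th} (h : Fi α [6, 1]) : Gd α [9, 8, 7, 6, 1] :=
  have h' := h.inv (y := 6) (by simp) (by norm_num)
  (step h' (cand h' (by decide) (by decide) (y := 8) (by decide) (w := [6, 6]) (by decide) (by decide +kernel))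
    (RT := [([8], 2)]) (J := (List.range 7).map fun i => rpl i 6 []) (by decide +kernel) (by decide +kernel)).trans
    fun _ k => (k.inv (y := 8) (by simp) (by norm_num)).gd

theorem step_d {α : MulAut Spor.Th} (h : Fi α [9, 8, 7, 6, 1]) : Gd α [4, 9, 8, 7, 6, 1] :=
  step h (cand h (by decide) (by decide) (y := 4) (by decide) (w := [7]) (by decide) (by decide +kernel))
    (RT := [([4], 1), ([9, 4, 8, 4], 0)]) (J := [0, 1, 2, 3].map qw) (by decide +kernel) (by decide +kernel)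

def W4 : List (List ℕ) := [[3], [1, 3], [4, 3, 4], [1, 4, 3, 4]]

theorem c_chk : allL (WS.map fun w => apd w [3]) (fun w => cnd (subB w Thn.Lc)
    (cnd (holds 3 w [([3], 1), ([1, 4, 3, 4, 3, 4, 3, 4, 3], 0)]) (W4.any fun c => eqL w c) true) false) = true := by
  decide +kernel

theorem cq_chk : allL W4 (fun c => allL QL fun q => [[], [1]].any fun z => eqL (apd c q) (apd q (apd z c))) = true := by
  decide +kernel

open Cfsg.Lib.MatB.T3 in
theorem ce_chk : allL W4 (fun c => allL [[], [1]] fun z =>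
    force (evM 248 mR mI mT (apd (apd z c) [4, 5, 11, 4, 10])) fun A =>
    force (evM 248 mR mI mT (apd [4, 5, 11, 4, 10] c)) fun B =>
      cnd (allN 1000 fun p => Nat.beq (ent (248 * 248) A p) (ent (248 * 248) B p)) false true) = true := by
  decide +kernel

theorem ce_ne {c z : List ℕ} (hc : c ∈ W4) (hz : z ∈ [[], [1]]) :
    ev gam (apd (apd z c) [4, 5, 11, 4, 10]) ≠ ev gam (apd [4, 5, 11, 4, 10] c) := fun e => by
  have a := allL_iff.1 (allL_iff.1 ce_chk c hc) z hz
  rw [force_eq, force_eq, cnd_ff] at a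
  refine absurd (allN_iff.2 fun p hp => ?_) (Bool.eq_false_iff.1 a.1)
  by_contra k
  exact (rho_ev ((by decide +kernel : ∀ c ∈ W4, ∀ z ∈ [[], [1]], subB (apd (apd z c) [4, 5, 11, 4, 10]) L = true) c hc z
    hz)).ne (rho_ev (by clear e a k; revert c; decide +kernel))
    (p := p) (by omega) (Bool.eq_false_iff.2 k) (congrArg rho e)

theorem step_e {α : MulAut Spor.Th} (h : Fi α [4, 9, 8, 7, 6, 1]) : Gd α [5, 4, 9, 8, 7, 6, 1] := by
  have e0 : α (gam 5) ∈ centralizer {gam 1} := mem_c (h 1 (by simp)) (c_le (mem_cl (by decide)))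
  have cm : ∀ x, eqH [5, x] [x, 5] = true → Commute (α (gam 5)) (α (gam x)) := fun x k =>
    Commute.map (show gam 5 * gam x = gam x * gam 5 by simpa [ev_cons, ev_nil] using h_eq k) α
  obtain ⟨w, hw, e⟩ := e_im (f_mem ⟨_, e0⟩) (by
      rw [← (f_gc (by decide)).1]
      refine Commute.map (Subtype.ext ?_) f
      rw [coe_mul, coe_mul, (f_gc (by decide)).2, ← h 8 (by simp)]
      exact cm 8 (by decide +kernel)) fun w hw => by
    have s : ∀ x ∈ w, x = 5 ∨ x ∈ LC ∧ x ∈ [4, 9, 8, 7, 6, 1] := by revert w; decide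
    rw [← map_ev_of_gen (f := f) (γ := fun x => if x = 5 then ⟨_, e0⟩ else gc x) fun x hx => by
      split_ifs with k
      exacts [rfl, (f_gc ((s x hx).resolve_left k).1).1], ← f.map_one]
    refine congrArg f (Subtype.ext ((map_ev_of_gen (f := (centralizer {gam 1}).subtype)
      (δ := fun x => α.toMonoidHom (gam x)) fun x hx => ?_).trans ?_))
    · split_ifs with k
      · rw [k]; rfl
      · exact (f_gc ((s x hx).resolve_left k).1).2.trans (h x ((s x hx).resolve_left k).2).symm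
    · rw [← ev_map, h_eq (w := []) (by clear s; revert w; decide +kernel), ev_nil, map_one, coe_one]
  have s : subB w LC = true := by clear e; revert w; decide +kernel
  obtain ⟨q, hq, e'⟩ := ker_list (g := ⟨_, e0⟩ * (ev gc w)⁻¹) (by rw [map_mul, map_inv, f_ev s, e, mul_inv_cancel])
  rw [coe_mul, coe_inv, coe_gc s, mul_inv_eq_iff_eq_mul] at e'
  rcases List.mem_cons.1 hw with rfl | hw
  · exact step h (W := QL.map fun w => apd w [5]) ⟨_, List.mem_map_of_mem hq, by
      rw [apd_eq, ev_append, g_eq (w := [5]) (by decide +kernel)]; exact e'⟩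
      (RT := [([5], 1), ([9, 5, 8, 5], 0), ([4, 5], 2), ([5, 7, 5, 7, 7, 5, 6, 6, 6], 0)]) (J := [[]])
      (by decide +kernel) (by decide +kernel)
  obtain rfl := List.mem_singleton.1 hw
  obtain ⟨v, hv, k⟩ := cand h (by decide) (by decide) (y := 3) (by decide) (w := [6]) (by decide) (by decide +kernel)
  have a := allL_iff.1 c_chk v hv
  rw [cnd_tt] at a
  have b := a.2
  rw [holds_of h a.1 k (by decide +kernel)] at b
  obtain ⟨c, hc, b1⟩ := List.any_eq_true.1 (show W4.any _ = true from b)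
  obtain ⟨z, hz, b2⟩ := List.any_eq_true.1 (allL_iff.1 (allL_iff.1 cq_chk c hc) q hq)
  have b3 := (cm 3 (by decide +kernel)).eq
  have b4 := l_eq b2
  rw [apd_eq, ev_append, apd_eq, ev_append] at b4
  rw [k, l_eq b1, show α (gam 5) = _ from e', ← mul_assoc, b4, mul_assoc, mul_assoc, mul_right_inj,
    g_eq (w := c) (by clear b1 b2 b4 b3; revert c; decide +kernel),
    g_eq (by clear b1 b2 b4 b3; revert z c; decide +kernel), ← ev_append, ← ev_append, ← apd_eq, ← apd_eq] at b3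
  exact absurd b3.symm (ce_ne hc hz)

theorem fix_l {y : Spor.Th ⧸ H} (h : ∀ x ∈ [4, 5, 6, 7, 8, 9], gam x • y = y) :
    y ∈ MulAction.orbit H (nd 0) ∧ (MulAction.orbit H (nd 0)).ncard = 1 := by
  obtain ⟨v, hv, e⟩ := cover.2 y
  have a := (MulAction.stabilizer H y).index_mul_card
  rw [MulAction.index_stabilizer, MulAction.orbit_eq_iff.2 e, orbit_eq v hv, card_all.2.2.2] at a
  have s : ∀ x ∈ [4, 5, 6, 7, 8, 9], x ∈ LC ∧ x ∈ LN := by decide
  have b1 := card_map_dvd (cl gc [4, 5, 6, 7, 8, 9]) f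
  have b2 : cl gam [4, 5, 6, 7, 8, 9] ≤ (MulAction.stabilizer H y).map H.subtype :=
    cl_le.2 fun x hx => ⟨⟨_, mem_cl (s x hx).2⟩, h x hx, rfl⟩
  rw [map_cl_of_gen fun x hx => (f_gc (s x hx).1).1,
    ← card_map_of_injective (subtype_injective _), map_cl_of_gen (δ := gam) fun x hx => (f_gc (s x hx).1).2] at b1
  have b3 := b1.trans (card_dvd_of_le b2)
  rw [card_map_of_injective (subtype_injective _)] at b3
  have b4 := card_dvd_of_le (cl_mono (γ := gp Th9.nets) fun x hx => (s x hx).1)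
  rw [a9] at b4
  have : Fact (Nat.Prime 7) := ⟨by norm_num⟩
  have b5 := (cl (gp Th9.nets) [4, 5, 6, 7, 8, 9]).orderOf_dvd_natCard (mem_cl (x := 6) (by simp))
  rw [orderOf_eq_prime (p := 7) (by simpa [ev_single] using Th9.nets_rel ([6], 6) (by decide +kernel)) fun k =>
    absurd (t9_ok 6 2) (by rw [k]; decide +kernel)] at b5
  have b6 := l_lb
  rcases (by clear a e; revert v; decide +kernel : (v.1 = 0 ∧ v.2.2.2.2.2 = 1) ∨ 0 < v.2.2.2.2.2 ∧
    (¬ 7 ∣ 634023936 / v.2.2.2.2.2 ∨ Nat.gcd (634023936 / v.2.2.2.2.2) 181440 < 1512)) with ⟨k1, k2⟩ | ⟨k1, k2⟩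
  · exact ⟨k1 ▸ e, k1 ▸ (orbit_eq v hv).trans k2⟩
  · rw [← a, Nat.mul_div_cancel_left _ k1] at k2
    have := Nat.le_of_dvd (Nat.gcd_pos_of_pos_right _ (by norm_num)) (Nat.dvd_gcd b3 b4)
    exact absurd (b5.trans b3) (k2.resolve_right (by omega))

theorem step_b {α : MulAut Spor.Th} (h : Fi α [5, 4, 9, 8, 7, 6, 1]) : Gd α [2, 5, 4, 9, 8, 7, 6, 1] := by
  have s : ∀ x ∈ [4, 5, 6, 7, 8, 9], x ∈ LN ∧ x ∈ [5, 4, 9, 8, 7, 6, 1] ∧ eqH [x, 2] [2, x] = true := by decide +kernel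
  obtain ⟨a1, a2⟩ := fix_l (y := (α (gam 2) : Spor.Th)) fun x hx => by
    have c : gam x * gam 2 = gam 2 * gam x := by simpa [ev_cons, ev_nil] using h_eq (s x hx).2.2
    change ((gam x * α (gam 2) : Spor.Th) : Spor.Th ⧸ H) = _
    rw [← h x (s x hx).2.1, ← map_mul, c, map_mul, h x (s x hx).2.1]
    exact QuotientGroup.mk_mul_of_mem _ (mem_cl (s x hx).1)
  obtain ⟨a3, -⟩ := fix_l (y := (1 : Spor.Th)) fun x hx => QuotientGroup.eq.2 (by simpa using mem_cl (s x hx).1)
  obtain ⟨g, hg⟩ : α (gam 2) ∈ ph.range := ph_range ▸ (by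
    simpa using QuotientGroup.eq.1 ((Set.ncard_le_one (Set.finite_of_ncard_ne_zero (by omega))).1 a2.le _ a3 _ a1))
  have r1 := gam_rel.map α.toMonoidHom ([1, 2], 2) (by decide +kernel)
  have r2 := gam_rel.map α.toMonoidHom ([2], 1) (by decide +kernel)
  have e1 : ph (ed [1]) = gam 1 := (ph_ed (by decide +kernel)).trans (ev_single _ _)
  simp only [ev_cons, ev_nil, mul_one, MulEquiv.coe_toMonoidHom, h 1 (by simp), ← hg] at r1 r2
  rw [← e1] at r1
  have r3 : ed [1] * ed [1] = 1 := Thn.ctl.eq (u := [1, 1]) (v := []) (by decide +kernel)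
  rw [← map_mul, ← map_pow, ← ph.map_one] at r1
  rw [← map_pow, ← ph.map_one] at r2
  obtain ⟨d, hd, e, -⟩ := cls.2 g (IsConj.symm (isConj_iff.2 ⟨ed [1] * g, by
    have k1 := ph_inj r1
    have k2 := ph_inj r2
    rw [mul_inv_rev, inv_eq_of_mul_eq_one_right r3, inv_eq_of_mul_eq_one_right ((pow_two g).symm.trans k2)]
    calc _ = (ed [1] * g) ^ 3 * g⁻¹ := by simp only [pow_succ, pow_zero, one_mul, mul_assoc, mul_inv_cancel, mul_one]
      _ = g := by rw [k1, one_mul, inv_eq_of_mul_eq_one_right ((pow_two g).symm.trans k2)]⟩))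
  have e2 : α (gam 2) = ev γ (MatB.FixC.cw Thn.civ [1] d.1) := by rw [ev_g, ← hg, ← e]
  refine step h (W := (A.map fun d => MatB.FixC.cw Thn.civ [1] d.1).filter fun w => !eqL w [1])
    ⟨_, List.mem_filter.2 ⟨List.mem_map_of_mem hd, ?_⟩, e2⟩
    (RT := [([7, 2, 6, 2], 0), ([2, 5], 1), ([2, 4], 1)]) (J := [[], [1]]) (by decide +kernel) (by decide +kernel)
  rw [Bool.not_eq_true', Bool.eq_false_iff]
  intro k
  rw [l_eq k, ev_single, g_one (by decide), ← h 1 (by simp)] at e2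
  exact h_ne (u := [2]) (w := [1]) (p := 0) (by decide +kernel) (by rw [ev_single, ev_single]; exact α.injective e2)

theorem step_c {α : MulAut Spor.Th} (h : Fi α [2, 5, 4, 9, 8, 7, 6, 1]) : Gd α [3, 2, 5, 4, 9, 8, 7, 6, 1] :=
  step h (cand h (by decide) (by decide) (y := 3) (by decide) (w := [6]) (by decide) (by decide +kernel))
    (RT := [([3], 1), ([3, 5], 1), ([2, 3], 2), ([1, 4, 3, 4, 3, 4, 3, 4, 3], 0)]) (J := [[]]) (by decide +kernel)
    (by decide +kernel)

theorem step_u {α : MulAut Spor.Th} (h : Fi α [3, 2, 5, 4, 9, 8, 7, 6, 1]) : α (gam 10) = gam 10 := by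
  have u0 : gam 10 ∈ centralizer {gam 1} := c_le (mem_cl (by decide))
  have fq : ∀ q ∈ f.ker, α q = q := fun q hq => by
    obtain ⟨w, hw, e⟩ := ker_list hq
    rw [e, g_eq (sub_k (q_sub w hw)).1, h.ev fun x hx =>
      (by decide : ∀ x ∈ LK, x ∈ [3, 2, 5, 4, 9, 8, 7, 6, 1]) x (sub_of_subB (q_sub w hw) x hx)]
  rcases cen_q (g := ⟨_, mul_mem (mem_c (h 1 (by simp)) u0) (inv_mem u0)⟩) (fun q hq => Subtype.ext
    (comm_of (fq q hq) (fq _ ((inferInstance : f.ker.Normal).conj_mem' q hq ⟨_, u0⟩))).symm.eq) with k | k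
  · exact mul_inv_eq_one.1 k
  have r := gam_rel ([1, 3] ++ ([7, 11] ++ [7, 11] ++ [7, 11]), 0) (by decide +kernel)
  rw [zero_add, pow_one, ev_append, ev_append, ev_append, ← pow_three', ev_cons _ 7, ev_single,
    show gam 11 = (gam 10)⁻¹ from gam_inv (x := 10) (by norm_num)] at r
  have r' := congrArg α r
  have c : Commute (gam 7 * (gam 10)⁻¹) (gam 1)⁻¹ := Commute.inv_right
    (mem_centralizer_singleton_iff.1 (mul_mem (c_le (mem_cl (x := 7) (by decide))) (inv_mem u0)))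
  rw [map_mul, map_pow, map_mul, map_inv, h.ev (by decide), h 7 (by simp), mul_inv_eq_iff_eq_mul.1 k, mul_inv_rev,
    ← mul_assoc, c.mul_pow, ← mul_assoc, r, one_mul, map_one, inv_pow, inv_eq_one, ← orderOf_dvd_iff_pow_eq_one,
    z_ord] at r'
  omega

theorem inner (α : MulAut Spor.Th) : ∃ g, MulAut.conj g * α = 1 := by
  obtain ⟨g, h⟩ := ((((((step_a α).trans fun _ => step_s).trans fun _ => step_t).trans fun _ => step_d).trans
    fun _ => step_e).trans fun _ => step_b).trans fun _ => step_c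
  have h2 := (show Fi _ (10 :: _) from List.forall_mem_cons.2 ⟨step_u h, h⟩).inv (y := 10) (by simp) (by norm_num)
  refine ⟨g, MulEquiv.ext fun u => ?_⟩
  have e : cl gam L ≤ MonoidHom.eqLocus (MulAut.conj g * α).toMonoidHom (MonoidHom.id _) :=
    cl_le.2 fun x hx => h2 x (by clear h h2; revert x; decide +kernel)
  exact e (gam_top ▸ mem_top u)

theorem out_one : Nat.card (Out Spor.Th) = 1 :=
  card_out_eq_one (card_out_le_of [()] (fun β _ => β = 1) (fun α => (inner α).imp fun _ h => ⟨(), by simp, h⟩)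
    fun _ _ _ a b => a.trans b.symm)

end Cfsg.Lib.Comp.Tho
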