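import Cfsg.Agent.Lib.Comp.Tho.Base

set_option maxRecDepth 100000
set_option maxHeartbeats 400000

namespace Cfsg.Lib.Comp.Tho

open Cfsg.Lib.Comp.Th Cfsg.Lib.Comp.Thz Subgroup

/-- The alternating group on nine points. -/
noncomputable abbrev A9 : Subgroup (Equiv.Perm ℕ) := cl (gp Th9.nets) LC

noncomputable def t9 : ℕ → ℕ → ℕ := fun x p => ptInv (nth Net.nil Th9.nets x) p

theorem t9_ok : TbA Th9.nets t9 := tbA_pt Th9.nets_ok

theorem fx9 {π : Equiv.Perm ℕ} (h : π ∈ A9) : Fx 9 π := by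
  have h1 := Th9.act
  rw [cnd_tt] at h1
  exact fx_of_fxB Th9.nets_ok (by norm_num) (by norm_num) h1.2 h

theorem lt9 {π : Equiv.Perm ℕ} (h : π ∈ A9) {p : ℕ} (hp : p < 9) : π p < 9 := by
  by_contra k
  have := π.injective (fx9 h _ (not_lt.1 k))
  omega

theorem base0 : IsBase A9 [0, 1, 2, 3, 4, 5, 6] := by
  have e := cl_eq_of_slpB Th9.nets_ok (by norm_num) Th9.slp_ok
  have := (exact_of_beq (n := 181440) (L := Th9.L ++ Th9.slp.map (·.1)) (by rw [e]; exact a9.le)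
    (C := [([1,3,5,6,7,8,9,10,11,64,65,66,67,68,69,70,71,72],[4,5,6,4,5,4],0,0,9),
      ([1,3,6,7,8,9,10,11,64,65,66,67,68,69,70,71,72],[5,6,5,6,5],1,1,8),
      ([1,3,8,9,10,11,64,65,66,67,68,69,70,71,72],[6,6,65,6],2,2,7),
      ([1,3,65,66,67,68,69,70,71,72],[8,8,65,8],3,3,6),
      ([1,3,68,69,70,71,72],[65,66,65],4,4,5),
      ([1,3,71,72],[68,70],5,5,4),
      ([1,3],[71,71],6,6,3)]) (by decide +kernel)).isBase Th9.nets_ok
  rwa [e] at this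

theorem base2 : IsBase A9 [2, 3, 4, 5, 6, 7, 8] := fun g hg h => by
  have m : ev (gp Th9.nets) [8, 7, 5, 4, 7, 5] ∈ A9 := ev_mem fun x hx => mem_cl (by revert x; decide)
  have := base0 _ (mul_mem (mul_mem m hg) (inv_mem m)) fun b hb => by
    rw [Equiv.Perm.mul_apply, Equiv.Perm.mul_apply, h _ (by rw [← wap_eq t9_ok]; revert b; decide +kernel)]
    simp
  simpa using this

theorem cen7 {π : Equiv.Perm ℕ} (h : π ∈ A9) (hc : Commute π (gp Th9.nets 6)) : ∃ i < 7, π = gp Th9.nets 6 ^ i := by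
  have s : ∀ i p, wap t9 (rpl i 6 []) p = (gp Th9.nets 6 ^ i)⁻¹ p := fun i p => by
    rw [wap_eq t9_ok, ev_rpl, ev_nil, mul_one]
  obtain ⟨i, hi, e⟩ := (by decide +kernel : ∀ v < 9, t9 6 v ≠ v → ∃ i < 7, wap t9 (rpl i 6 []) 2 = v) _
    (lt9 (inv_mem h) (by norm_num : 2 < 9)) fun e => by
      rw [t9_ok, ← Equiv.Perm.mul_apply, ← hc.inv_inv.eq, Equiv.Perm.mul_apply, ← t9_ok] at e
      exact absurd (π⁻¹.injective e) (by decide +kernel)
  refine ⟨i, hi, (mul_inv_eq_one.1 (base2 _ (mul_mem (pow_mem (mem_cl (by decide)) i) (inv_mem h)) fun b hb => ?_)).symm⟩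
  obtain ⟨k, -, rfl⟩ := (by revert b; decide +kernel : ∃ k < 7, wap t9 (rpl k 6 []) 2 = b)
  have c : Commute (gp Th9.nets 6 ^ i * π⁻¹) (gp Th9.nets 6 ^ k)⁻¹ :=
    (((Commute.refl _).pow_pow i k).mul_left (hc.inv_left.pow_right k)).inv_right
  rw [s] at e
  rw [s, ← Equiv.Perm.mul_apply, c.eq, Equiv.Perm.mul_apply, Equiv.Perm.mul_apply, ← e]
  simp

theorem wap_gen {tb : ℕ → ℕ → ℕ} {δ : ℕ → Equiv.Perm ℕ} (h : ∀ x p, tb x p = (δ x)⁻¹ p) (w : List ℕ) (p : ℕ) :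
    wap tb w p = (ev δ w)⁻¹ p := by
  induction w generalizing p with
  | nil => rfl
  | cons x t ih =>
    have : wap tb (x :: t) p = wap tb t (tb x p) := rfl
    rw [this, ih, h, ev_cons, mul_inv_rev, Equiv.Perm.mul_apply]

/-- The possible images of `e`. -/
noncomputable def eB (T : List ℕ) : Bool :=
  cnd (allL [[5, 5], [4, 5, 4, 5, 4, 5], [5, 7, 5, 7, 7, 5, 6, 6, 6]] fun w => allN 9 fun p =>
      Nat.beq (wap (fun x p => cnd (Nat.beq x 5) (nth p T p) (t9 x p)) w p) p)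
    ([[5], [4, 5, 11, 4, 10]].any fun w => allN 9 fun p => Nat.beq (nth p T p) (wap t9 w p)) true

theorem e_chk : allN 9 (fun v0 => allN 9 fun v1 => allN 9 fun v2 => allN 9 fun v3 => allN 9 fun v4 =>
    force (t9 8 v3) fun a => force (t9 8 v4) fun b => force (t9 8 a) fun c => force (t9 8 b) fun d =>
      eB [v0, v1, v2, v3, v4, d, a, c, b]) = true := by decide +kernel

theorem e_im {π : Equiv.Perm ℕ} (h : π ∈ A9) (hc : Commute π (gp Th9.nets 8))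
    (hr : ∀ w ∈ [[5, 5], [4, 5, 4, 5, 4, 5], [5, 7, 5, 7, 7, 5, 6, 6, 6]],
      ev (fun x => if x = 5 then π else gp Th9.nets x) w = 1) :
    ∃ w ∈ [[5], [4, 5, 11, 4, 10]], π = ev (gp Th9.nets) w := by
  have l := fun p => lt9 (inv_mem h) (p := p)
  have a := allN_iff.1 (allN_iff.1 (allN_iff.1 (allN_iff.1 (allN_iff.1 e_chk _ (l 0 (by norm_num))) _
    (l 1 (by norm_num))) _ (l 2 (by norm_num))) _ (l 3 (by norm_num))) _ (l 4 (by norm_num))
  have c : ∀ p q, t9 8 p = q → t9 8 (π⁻¹ p) = π⁻¹ q := fun p q e => by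
    rw [← e, t9_ok, t9_ok, ← Equiv.Perm.mul_apply, ← hc.inv_inv.eq, Equiv.Perm.mul_apply]
  simp only [force_eq, c 3 6 (by decide +kernel), c 4 8 (by decide +kernel), c 6 7 (by decide +kernel),
    c 8 5 (by decide +kernel)] at a
  have T : ∀ p, nth p [π⁻¹ 0, π⁻¹ 1, π⁻¹ 2, π⁻¹ 3, π⁻¹ 4, π⁻¹ 5, π⁻¹ 6, π⁻¹ 7, π⁻¹ 8] p = π⁻¹ p := fun p => by
    by_cases k : p < 9
    · interval_cases p <;> rfl
    · obtain ⟨q, rfl⟩ := Nat.exists_eq_add_of_le' (not_lt.1 k)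
      exact (fx9 (inv_mem h) _ (not_lt.1 k)).symm
  unfold eB at a
  rw [show allL _ _ = true from allL_iff.2 fun w hw => allN_iff.2 fun p _ => by
    rw [wap_gen (δ := fun x => if x = 5 then π else gp Th9.nets x) (fun x p => by
      rw [T, t9_ok, cnd_eq]
      by_cases e : x = 5
      · rw [if_pos e, if_pos (beq_tt.2 e)]
      · rw [if_neg e, if_neg (mt beq_tt.1 e)]), hr w hw]
    exact Nat.beq_refl p] at a
  obtain ⟨w, hw, e⟩ := List.any_eq_true.1 (show List.any _ _ = true from a)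
  refine ⟨w, hw, inv_injective (Equiv.ext fun p => ?_)⟩
  by_cases k : p < 9
  · rw [← T, ← wap_eq t9_ok]; exact beq_tt.1 (allN_iff.1 e p k)
  · rw [fx9 (inv_mem h) _ (not_lt.1 k), fx9 (inv_mem (ev_mem fun x hx => mem_cl (by clear e; revert x w; decide))) _
      (not_lt.1 k)]

theorem l_lb : 1512 ≤ Nat.card (cl (gp Th9.nets) [4, 5, 6, 7, 8, 9]) :=
  have := Th9.nets_ok.finite [4, 5, 6, 7, 8, 9]
  lb_of_twB t9_ok (C := [(0,[[],[4],[4,5],[4,5,6],[4,5,7],[4,5,6,5],[4,5,6,6],[4,5,6,9],[4,5,7,7]]),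
    (1,[[],[5],[5,6],[5,7],[5,6,5],[5,6,6],[5,6,9],[5,7,7]]),(2,[[],[6],[7],[6,6],[6,9],[7,7],[7,9]]),
    (3,[[],[8],[9]])]) (by decide +kernel)

end Cfsg.Lib.Comp.Tho
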